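import Groth.Agent.WeakNormN.Basic
import Groth.Agent.EtaPt.UnivHomeo
import Groth.Agent.CompleteDvr.Exists
import Groth.Agent.FlatDom.Dvr
import Groth.Agent.NormalBC.ValDetect
import Groth.Agent.SNPtFun.Basic

/-!
On a seminormal Noetherian ring a pointwise function varying along complete DVRs is algebraic.
-/

set_option autoImplicit false
set_option linter.style.haveILetI false
set_option backward.isDefEq.respectTransparency false
universe u

namespace Groth.Agent.WeakNormN

open AlgebraicGeometry CategoryTheory IsLocalRing W4c1hilbchowinc TensorProduct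
open Groth.Agent.EtaPtLib

variable {R : Type u} [CommRing R]

/-- A rule assigning to every field valued point of `R` a value, naturally in the field, and given
by a ring element on complete discrete valuation rings. -/
structure Val (R : Type u) [CommRing R] where
  val : ∀ (K : Type u) [Field K], (R →+* K) → K
  natural : ∀ {K L : Type u} [Field K] [Field L] (ψ : R →+* K) (h : K →+* L),
    val L (h.comp ψ) = h (val K ψ)
  dvr : ∀ (A : Type u) [CommRing A] [IsDomain A] [IsDiscreteValuationRing A]
    [IsAdicComplete (maximalIdeal A) A] (ψ : R →+* A),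
    ∃ a : A, ∀ (K : Type u) [Field K] (h : A →+* K), val K (h.comp ψ) = h a

namespace Val

variable (v : Val R) [IsNoetherianRing R]

set_option maxHeartbeats 1600000 in
theorem isIntegral (K : Type u) [Field K] [Algebra R K] [Algebra.EssFiniteType R K] :
    IsIntegral R (v.val K (algebraMap R K)) := by
  by_contra hx
  set x := v.val K (algebraMap R K) with hxdef
  obtain ⟨V, hV, hVR, hxV⟩ := NormalBC.exists_dvr_notMem x hx
  letI : Algebra (ResidueField V) (ResidueField V) := Algebra.id _
  obtain ⟨A, _, _, _, ι, _, _, ε, hι, -⟩ :=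
    CompleteDvr.exists_complete_dvr_residue V (ResidueField V)
  let ψ : R →+* V := (algebraMap R K).codRestrict V.toSubring hVR
  obtain ⟨a, ha⟩ := v.dvr A (ι.comp ψ)
  have hiA := IsFractionRing.injective A (FractionRing A)
  have hAι : Function.Injective ((algebraMap A (FractionRing A)).comp ι) := by
    rw [RingHom.coe_comp]; exact hiA.comp hι
  let j : K →+* FractionRing A := IsFractionRing.lift hAι
  have hj : ∀ y : V, j (y : K) = algebraMap A (FractionRing A) (ι y) := fun y =>
    IsFractionRing.lift_algebraMap hAι y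
  have e : (algebraMap A (FractionRing A)).comp (ι.comp ψ) = j.comp (algebraMap R K) :=
    RingHom.ext fun r => (hj (ψ r)).symm
  have hax : algebraMap A (FractionRing A) a = j x := by
    rw [← ha (FractionRing A) (algebraMap A _), e, v.natural]
  have hx0 : x ≠ 0 := fun h => hxV (h ▸ V.zero_mem)
  have hxi : x⁻¹ ∈ V := (V.mem_or_inv_mem x).resolve_left hxV
  have hu : IsUnit (ι ⟨x⁻¹, hxi⟩) := IsUnit.of_mul_eq_one (b := a) (hiA (by
    rw [map_mul, map_one, hax, ← hj, ← map_mul, inv_mul_cancel₀ hx0, map_one]))
  obtain ⟨u, hu'⟩ := (IsLocalHom.map_nonunit (f := ι) _ hu).exists_right_inv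
  apply hxV
  have h1 : x⁻¹ * (u : K) = 1 := congrArg Subtype.val hu'
  rw [show x = (u : K) by rw [← mul_one x, ← h1, ← mul_assoc, mul_inv_cancel₀ hx0, one_mul]]
  exact u.2

set_option maxHeartbeats 1600000 in
theorem eq_of_domain {D : Type u} [CommRing D] [IsDomain D] [IsNoetherianRing D] (α : R →+* D)
    (d : D) (hd : v.val (FractionRing D) ((algebraMap D _).comp α) = algebraMap D _ d)
    (F : Type u) [Field F] (h : D →+* F) : v.val F (h.comp α) = h d := by
  have hiq : ∀ q : Ideal D, (hq : q.IsPrime) → v.val q.ResidueField ((algebraMap D q.ResidueField).comp α) =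
      algebraMap D q.ResidueField d := by
    intro q hq
    obtain ⟨V, _, _, _, φ, hloc, hker⟩ := FlatDom.exists_dvr_ker (Localization.AtPrime q) ⊥
    letI : Algebra (ResidueField V) (ResidueField V) := Algebra.id _
    obtain ⟨A, _, _, _, ι, _, _, ε, hι, -⟩ :=
      CompleteDvr.exists_complete_dvr_residue V (ResidueField V)
    let m : D →+* A := (ι.comp φ).comp (algebraMap D (Localization.AtPrime q))
    have hm : Function.Injective m :=
      (hι.comp ((RingHom.injective_iff_ker_eq_bot φ).mpr hker)).comp
        (IsLocalization.injective _ q.primeCompl_le_nonZeroDivisors)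
    obtain ⟨a, ha⟩ := v.dvr A (m.comp α)
    have hiA := IsFractionRing.injective A (FractionRing A)
    have hAm : Function.Injective ((algebraMap A (FractionRing A)).comp m) := by
      rw [RingHom.coe_comp]; exact hiA.comp hm
    let j : FractionRing D →+* FractionRing A := IsFractionRing.lift hAm
    have hj : ∀ y, j (algebraMap D _ y) = algebraMap A (FractionRing A) (m y) := fun y =>
      IsFractionRing.lift_algebraMap hAm y
    have had : a = m d := by
      refine hiA ?_
      rw [← ha (FractionRing A) (algebraMap A _), ← hj, ← hd, ← v.natural]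
      exact congrArg (v.val _) (RingHom.ext fun r => (hj (α r)).symm)
    have hk : RingHom.ker ((residue A).comp m) = q := Ideal.ext fun y => by
      rw [RingHom.mem_ker, RingHom.comp_apply, residue_eq_zero_iff, mem_maximalIdeal, mem_nonunits_iff]
      show ¬ IsUnit ((ι.comp φ) (algebraMap D (Localization.AtPrime q) y)) ↔ _
      haveI : IsLocalHom (ι.comp φ) := RingHom.isLocalHom_comp _ _
      rw [isUnit_map_iff, IsLocalization.AtPrime.isUnit_to_map_iff _ q]
      exact not_not
    let l : q.ResidueField →+* ResidueField A := rfLift ((residue A).comp m) q hk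
    have hl : l.comp (algebraMap D q.ResidueField) = (residue A).comp m :=
      RingHom.ext fun y => rfLift_algebraMap ((residue A).comp m) q hk y
    refine l.injective ?_
    rw [← v.natural, ← RingHom.comp_assoc, hl, RingHom.comp_assoc, ha, had]
    exact (RingHom.congr_fun hl d).symm
  haveI := RingHom.ker_isPrime h
  let l := rfLift h (RingHom.ker h) rfl
  have hl : l.comp (algebraMap D (RingHom.ker h).ResidueField) = h :=
    RingHom.ext fun y => rfLift_algebraMap h (RingHom.ker h) rfl y
  conv_lhs => rw [← hl]
  rw [RingHom.comp_assoc, v.natural, hiq]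
  exact RingHom.congr_fun hl d

set_option maxHeartbeats 1600000 in
theorem exists_eq_of_seminormal (hR : HTop.IsSeminormalRing R) :
    ∃ t : R, ∀ (K : Type u) [Field K] (ψ : R →+* K), v.val K ψ = ψ t := by
  classical
  haveI := Groth.Agent.WeakNorm.isReduced_of_isSeminormalRing hR
  have hfin : (minimalPrimes R).Finite := minimalPrimes.finite_of_isNoetherianRing R
  let ι := ↥(minimalPrimes R)
  haveI : Fintype ι := hfin.fintype
  haveI : ∀ P : ι, (P.1).IsPrime := fun P => P.2.1.1
  let E := ∀ P : ι, P.1.ResidueField
  let s : E := fun P => v.val _ (algebraMap R P.1.ResidueField)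
  choose p hpm hp using fun P : ι => v.isIntegral P.1.ResidueField
  have hs : IsIntegral R s := by
    refine ⟨∏ P, p P, Polynomial.monic_prod_of_monic _ _ fun P _ => hpm P, funext fun P => ?_⟩
    have e := Polynomial.hom_eval₂ (∏ P, p P) (algebraMap R E) (Pi.evalRingHom (fun P : ι => P.1.ResidueField) P) s
    refine e.trans ?_
    show Polynomial.eval₂ (algebraMap R P.1.ResidueField) (s P) _ = 0
    rw [Polynomial.eval₂_finsetProd]
    exact Finset.prod_eq_zero (Finset.mem_univ P) (hp P)
  let C : Subalgebra R E := Algebra.adjoin R {s}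
  haveI hCfin : Module.Finite R C := Module.Finite.iff_fg.mpr (IsIntegral.fg_adjoin_singleton hs)
  have hinj : Function.Injective (algebraMap R C) := by
    rw [injective_iff_map_eq_zero]
    intro a ha
    refine IsNilpotent.eq_zero (nilpotent_iff_mem_prime.mpr fun Q hQ => ?_)
    haveI := hQ
    obtain ⟨P, hP, hPQ⟩ := Ideal.exists_minimalPrimes_le (bot_le : ⊥ ≤ Q)
    haveI := hP.1.1
    exact hPQ (Ideal.algebraMap_residueField_eq_zero.mp
      (congrFun (congrArg Subtype.val ha) (⟨P, hP⟩ : ι)))
  let sC : C := ⟨s, Algebra.subset_adjoin rfl⟩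
  -- the value at every field valued point of `C`
  have key : ∀ (F : Type u) [Field F] (h : C →+* F), v.val F (h.comp (algebraMap R C)) = h sC := by
    intro F _ h
    let π : ∀ P : ι, C →+* P.1.ResidueField := fun P =>
      (Pi.evalRingHom (fun P : ι => P.1.ResidueField) P).comp C.val.toRingHom
    haveI := RingHom.ker_isPrime h
    obtain ⟨P, -, hP⟩ : ∃ P ∈ (Finset.univ : Finset ι), RingHom.ker (π P) ≤ RingHom.ker h := by
      refine (Ideal.IsPrime.inf_le' inferInstance).mp fun c hc => ?_
      have : c = 0 := Subtype.ext (funext fun P => by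
        have := Submodule.mem_finsetInf.mp hc P (Finset.mem_univ P)
        exact this)
      rw [this]; exact zero_mem _
    let D := (π P).range
    let π' : C →+* D := (π P).rangeRestrict
    have hsurj : Function.Surjective π' := (π P).rangeRestrict_surjective
    haveI : IsNoetherianRing C := isNoetherianRing_of_fg
      (Subalgebra.fg_def.mpr ⟨{s}, Set.finite_singleton s, rfl⟩ : C.FG)
    haveI : IsNoetherianRing D := isNoetherianRing_of_surjective C D π' hsurj
    have hk : RingHom.ker π' ≤ RingHom.ker h := by
      rw [RingHom.ker_rangeRestrict]; exact hP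
    let h' : D →+* F := π'.liftOfSurjective hsurj ⟨h, hk⟩
    have hh' : h'.comp π' = h := RingHom.liftOfRightInverse_comp _ _ _ _
    let j : FractionRing D →+* P.1.ResidueField :=
      IsFractionRing.lift (g := D.subtype) Subtype.val_injective
    have hj : ∀ y, j (algebraMap D _ y) = (y : P.1.ResidueField) := fun y =>
      IsFractionRing.lift_algebraMap (g := D.subtype) Subtype.val_injective y
    have hd : v.val (FractionRing D) ((algebraMap D _).comp (π'.comp (algebraMap R C))) =
        algebraMap D _ (π' sC) := by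
      refine j.injective ?_
      rw [← v.natural, hj]
      exact congrArg (v.val _) (RingHom.ext fun r => hj _)
    have := v.eq_of_domain (π'.comp (algebraMap R C)) (π' sC) hd F h'
    rw [← RingHom.comp_assoc, hh'] at this
    rw [this, ← hh']; rfl
  have hext : ∀ (F : Type u) [Field F] (h h' : C →+* F),
      h.comp (algebraMap R C) = h'.comp (algebraMap R C) → h = h' := by
    intro F _ h h' e
    refine RingHom.ext fun c => ?_
    obtain ⟨c, hc⟩ := c
    induction hc using Algebra.adjoin_induction with
    | mem x hx =>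
        obtain rfl := Set.mem_singleton_iff.mp hx
        show h sC = h' sC
        rw [← key F h, ← key F h', e]
    | algebraMap r => exact RingHom.congr_fun e r
    | add x y hx hy h1 h2 =>
        show h (⟨x, hx⟩ + ⟨y, hy⟩) = h' (⟨x, hx⟩ + ⟨y, hy⟩)
        rw [map_add, map_add, h1, h2]
    | mul x y hx hy h1 h2 =>
        show h (⟨x, hx⟩ * ⟨y, hy⟩) = h' (⟨x, hx⟩ * ⟨y, hy⟩)
        rw [map_mul, map_mul, h1, h2]
  haveI : Algebra.IsIntegral R C := Algebra.IsIntegral.of_finite R C
  have hu : Groth.Agent.WeakNorm.UH (algebraMap R C) := by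
    refine Groth.Agent.WeakNorm.uh_iff.mpr ⟨inferInstance, fun c => nilpotent_iff_mem_prime.mpr fun Q hQ => ?_,
      fun q => ?_⟩
    · haveI := hQ
      rw [← Ideal.algebraMap_residueField_eq_zero (I := Q), map_sub, sub_eq_zero]
      suffices hg : ∀ g : C ⊗[R] C →+* Q.ResidueField, g (c ⊗ₜ[R] 1) = g (1 ⊗ₜ[R] c) from hg _
      intro g
      refine RingHom.congr_fun (hext Q.ResidueField
        (g.comp Algebra.TensorProduct.includeLeftRingHom)
        (g.comp (Algebra.TensorProduct.includeRight : C →ₐ[R] C ⊗[R] C).toRingHom)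
        (RingHom.ext fun r => congrArg g ?_)) c
      exact Algebra.TensorProduct.tmul_one_eq_one_tmul (A := C) (B := C) r
    · exact (algebraMap_isIntegral_iff.mpr inferInstance).comap_surjective hinj q
  have hres : HTop.ResidueFieldsIso (Spec.map (CommRingCat.ofHom (algebraMap R C))) := by
    refine (residueFieldsIso_iff _).mpr fun Q => ⟨RingHom.injective _, ?_⟩
    let r := Ideal.ResidueField.map (PrimeSpectrum.comap (algebraMap R C) Q).asIdeal Q.asIdeal (algebraMap R C) rfl
    have hd : ∀ d : C, algebraMap C Q.asIdeal.ResidueField d ∈ r.fieldRange := by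
      have hs' : algebraMap C Q.asIdeal.ResidueField sC ∈ r.fieldRange := by
        refine ⟨v.val _ (algebraMap R _), ?_⟩
        rw [← v.natural, ← key]
        exact congrArg (v.val _) (RingHom.ext fun a => Ideal.ResidueField.map_algebraMap _ _ _ _ _)
      rintro ⟨d, hd⟩
      induction hd using Algebra.adjoin_induction with
      | mem x hx => obtain rfl := Set.mem_singleton_iff.mp hx; exact hs'
      | algebraMap a =>
          exact ⟨algebraMap R _ a, Ideal.ResidueField.map_algebraMap _ _ _ _ _⟩
      | add x y hx hy h1 h2 =>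
          show algebraMap C Q.asIdeal.ResidueField (⟨x, hx⟩ + ⟨y, hy⟩) ∈ _
          rw [map_add]; exact add_mem h1 h2
      | mul x y hx hy h1 h2 =>
          show algebraMap C Q.asIdeal.ResidueField (⟨x, hx⟩ * ⟨y, hy⟩) ∈ _
          rw [map_mul]; exact mul_mem h1 h2
    intro z
    obtain ⟨x, w, -, rfl⟩ := IsFractionRing.div_surjective (C ⧸ Q.asIdeal) z
    obtain ⟨x, rfl⟩ := Ideal.Quotient.mk_surjective x
    obtain ⟨w, rfl⟩ := Ideal.Quotient.mk_surjective w
    exact div_mem (hd x) (hd w)
  haveI : _root_.IsReduced C := isReduced_of_injective C.val Subtype.val_injective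
  have hbij := Groth.Agent.WeakNorm.bijective_of_seminormal hR hu hres
  obtain ⟨t, ht⟩ := hbij.2 sC
  let e := RingEquiv.ofBijective (algebraMap R C) hbij
  refine ⟨t, fun K _ ψ => ?_⟩
  have := key K (ψ.comp e.symm.toRingHom)
  rw [show (ψ.comp e.symm.toRingHom).comp (algebraMap R C) = ψ from
    RingHom.ext fun r => congrArg ψ (e.symm_apply_apply r)] at this
  rw [this, ← ht]
  exact congrArg ψ (e.symm_apply_apply t)

end Val

/-- The value of a pointwise function at a prime, in the residue field of the ideal. -/
noncomputable def ptVal (f : PtFun (Spec (CommRingCat.of R))) (p : PrimeSpectrum R) :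
    p.asIdeal.ResidueField :=
  (Scheme.Spec.residueFieldIso (CommRingCat.of R) p).hom (f p)

/-- The value of a pointwise function at a field valued point. -/
noncomputable def fldVal (f : PtFun (Spec (CommRingCat.of R))) (K : Type u) [Field K] (ψ : R →+* K) : K :=
  haveI := RingHom.ker_isPrime ψ
  rfLift ψ (RingHom.ker ψ) rfl (ptVal f ⟨RingHom.ker ψ, inferInstance⟩)

theorem fldVal_eq (f : PtFun (Spec (CommRingCat.of R))) {K : Type u} [Field K] (ψ : R →+* K)
    (p : PrimeSpectrum R) (φ : p.asIdeal.ResidueField →+* K)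
    (h : φ.comp (algebraMap R p.asIdeal.ResidueField) = ψ) : fldVal f K ψ = φ (ptVal f p) := by
  haveI := RingHom.ker_isPrime ψ
  have key : ∀ (p' : PrimeSpectrum R), p' = p → ∀ α : p'.asIdeal.ResidueField →+* K,
      α.comp (algebraMap R p'.asIdeal.ResidueField) = ψ → α (ptVal f p') = φ (ptVal f p) := by
    rintro p' rfl α hα
    rw [residueField_hom_ext (hα.trans h.symm)]
  refine key ⟨RingHom.ker ψ, inferInstance⟩ (PrimeSpectrum.ext (Ideal.ext fun a => ?_))
    (rfLift ψ (RingHom.ker ψ) rfl) (rfLift_comp ψ (RingHom.ker ψ) rfl)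
  show ψ a = 0 ↔ a ∈ p.asIdeal
  rw [← h, RingHom.comp_apply, map_eq_zero_iff φ φ.injective, Ideal.algebraMap_residueField_eq_zero]

theorem residueFieldMap_ptVal {A : Type u} [CommRing A] (f : PtFun (Spec (CommRingCat.of R)))
    (ψ : R →+* A) (a₀ : Γ(Spec (CommRingCat.of A), ⊤))
    (ha₀ : PtFun.ofSection (Spec (CommRingCat.of A)) a₀ = f.pullback (Spec.map (CommRingCat.ofHom ψ)))
    (Q : PrimeSpectrum A) :
    Ideal.ResidueField.map (PrimeSpectrum.comap ψ Q).asIdeal Q.asIdeal ψ rfl
        (ptVal f (PrimeSpectrum.comap ψ Q)) =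
      algebraMap A Q.asIdeal.ResidueField ((Scheme.ΓSpecIso (CommRingCat.of A)).hom a₀) := by
  let φ := CommRingCat.ofHom ψ
  let p := PrimeSpectrum.comap ψ Q
  have e : ((Spec.map φ).residueFieldMap Q).hom.comp
      (Scheme.Spec.residueFieldIso (CommRingCat.of R) p).inv.hom =
      (Scheme.Spec.residueFieldIso (CommRingCat.of A) Q).inv.hom.comp
        (Ideal.ResidueField.map p.asIdeal Q.asIdeal ψ rfl) :=
    residueField_hom_ext (RingHom.ext fun a => (residueFieldMap_residueFieldIso φ Q a).trans
      (congrArg _ (Ideal.ResidueField.map_algebraMap p.asIdeal Q.asIdeal ψ rfl a).symm))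
  apply (ConcreteCategory.bijective_of_isIso
    (Scheme.Spec.residueFieldIso (CommRingCat.of A) Q).inv).1
  rw [residueFieldIso_inv_algebraMap]
  refine (RingHom.congr_fun e (ptVal f p)).symm.trans ?_
  show (Spec.map φ).residueFieldMap Q ((Scheme.Spec.residueFieldIso (CommRingCat.of R) p).inv
    ((Scheme.Spec.residueFieldIso (CommRingCat.of R) p).hom (f p))) = _
  refine (congrArg ((Spec.map φ).residueFieldMap Q)
    (Iso.hom_inv_id_apply (Scheme.Spec.residueFieldIso (CommRingCat.of R) p) (f p))).trans ?_
  refine (congrFun ha₀ Q).symm.trans ?_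
  exact congrArg (Scheme.Γevaluation (Spec (CommRingCat.of A)) Q)
      (Iso.hom_inv_id_apply (Scheme.ΓSpecIso (CommRingCat.of A)) a₀).symm

/-- The rule attached to a pointwise function varying along complete DVRs. -/
noncomputable def valOfPtFun (f : PtFun (Spec (CommRingCat.of R))) (hf : f.VariesAlongCompleteDVR) :
    Val R where
  val := fldVal f
  natural {K L} _ _ ψ h := by
    haveI := RingHom.ker_isPrime ψ
    exact fldVal_eq f (h.comp ψ) ⟨RingHom.ker ψ, inferInstance⟩ (h.comp (rfLift ψ (RingHom.ker ψ) rfl))
      (by rw [RingHom.comp_assoc, rfLift_comp])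
  dvr A _ _ _ _ ψ := by
    obtain ⟨a₀, ha₀⟩ := hf A (Spec.map (CommRingCat.ofHom ψ))
    refine ⟨(Scheme.ΓSpecIso (CommRingCat.of A)).hom a₀, fun K _ h => ?_⟩
    haveI := RingHom.ker_isPrime h
    let Q : PrimeSpectrum A := ⟨RingHom.ker h, inferInstance⟩
    rw [fldVal_eq f (h.comp ψ) (PrimeSpectrum.comap ψ Q)
      ((rfLift h (RingHom.ker h) rfl).comp
        (Ideal.ResidueField.map (PrimeSpectrum.comap ψ Q).asIdeal Q.asIdeal ψ rfl))
      (RingHom.ext fun a => by
        simp only [RingHom.comp_apply]
        erw [Ideal.ResidueField.map_algebraMap]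
        exact rfLift_algebraMap h (RingHom.ker h) rfl _),
      RingHom.comp_apply]
    erw [residueFieldMap_ptVal f ψ a₀ ha₀ Q]
    exact rfLift_algebraMap h (RingHom.ker h) rfl _

set_option maxHeartbeats 1600000 in
theorem existsUnique_section [IsNoetherianRing R] (hR : HTop.IsSeminormalRing R)
    (f : PtFun (Spec (CommRingCat.of R))) (hf : f.VariesAlongCompleteDVR) :
    ∃! a : Γ(Spec (CommRingCat.of R), ⊤), PtFun.ofSection (Spec (CommRingCat.of R)) a = f := by
  haveI := Groth.Agent.WeakNorm.isReduced_of_isSeminormalRing hR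
  haveI : IsReduced (Spec (CommRingCat.of R)) := inferInstance
  obtain ⟨t, ht⟩ := (valOfPtFun f hf).exists_eq_of_seminormal hR
  have hval : ∀ p : PrimeSpectrum R, ptVal f p = algebraMap R _ t := fun p => by
    rw [← ht p.asIdeal.ResidueField (algebraMap R _)]
    exact (fldVal_eq f (algebraMap R _) p (RingHom.id _) (RingHom.id_comp _)).symm
  have he : PtFun.ofSection (Spec (CommRingCat.of R)) ((Scheme.ΓSpecIso (CommRingCat.of R)).inv t) = f :=
    funext fun p => by
      show Scheme.Γevaluation _ p _ = _
      rw [← residueFieldIso_inv_algebraMap]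
      erw [← hval p]
      exact Iso.hom_inv_id_apply _ (f p)
  exact ⟨_, he, fun b hb => SNPtFun.section_ext fun p =>
    (congrFun hb p).trans (congrFun he p).symm⟩

end Groth.Agent.WeakNormN
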