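import Groth.Agent.WeakNormN.Basic

/-!
Lifting along proper universally injective morphisms from seminormal schemes.
-/

set_option autoImplicit false
set_option linter.style.haveILetI false
set_option backward.isDefEq.respectTransparency false
universe u

namespace Groth.Agent.WeakNormN

open AlgebraicGeometry CategoryTheory CategoryTheory.Limits TopologicalSpace
open Groth.Agent.WeakNorm

theorem residueFieldsIso_of_sections {X Y : Scheme.{u}} (π : X ⟶ Y) [UniversallyInjective π]
    (h : ∀ z : X, ∃ s : Spec (Y.residueField (π z)) ⟶ X,
      s ≫ π = Y.fromSpecResidueField (π z)) :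
    HTop.ResidueFieldsIso π := fun z => by
  obtain ⟨s, hs⟩ := h z
  obtain ⟨⟨z', φ⟩, hzφ⟩ := (X.SpecToEquivOfField (Y.residueField (π z))).symm.surjective s
  rw [← hzφ, Scheme.SpecToEquivOfField_symm_apply, Category.assoc] at hs
  have hz : z' = z := π.injective (by
    have := congrArg (fun m => m.base (IsLocalRing.closedPoint (Y.residueField (π z)))) hs
    refine Eq.trans ?_ (this.trans (Y.fromSpecResidueField_apply (π z) _))
    simp)
  subst hz
  have h1 : π.residueFieldMap z' ≫ φ = 𝟙 _ := by
    apply Spec.map_injective
    rw [Spec.map_id, Spec.map_comp, ← cancel_mono (Y.fromSpecResidueField (π z')), Category.assoc,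
      Scheme.Hom.SpecMap_residueFieldMap_fromSpecResidueField, hs]
    exact (Category.id_comp _).symm
  rw [ConcreteCategory.isIso_iff_bijective]
  refine ⟨RingHom.injective _, fun w => ⟨φ w, ?_⟩⟩
  refine φ.hom.injective ?_
  exact ConcreteCategory.congr_hom h1 (φ w)

theorem isUnivHomeo_of_isProper {X Y : Scheme.{u}} (π : X ⟶ Y) [IsProper π] [UniversallyInjective π]
    [Surjective π] : FlatMor.IsUnivHomeo π := by
  haveI : LocallyQuasiFinite π :=
    LocallyQuasiFinite.of_finite_preimage_singleton π fun y =>
      Set.Subsingleton.finite fun a ha b hb => π.injective (ha.trans hb.symm)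
  haveI : IsFinite π := IsFinite.of_isProper_of_locallyQuasiFinite π
  rw [isUnivHomeo_iff]
  exact ⟨inferInstance, inferInstance, inferInstance⟩

end Groth.Agent.WeakNormN
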