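import Groth.Agent.WeakNormN.Descend

/-!
Descending functions along proper surjections onto seminormal schemes: gluing.
-/

set_option autoImplicit false
set_option linter.style.haveILetI false
set_option backward.isDefEq.respectTransparency false
universe u

namespace Groth.Agent.WeakNormN

open AlgebraicGeometry CategoryTheory CategoryTheory.Limits TopologicalSpace
open Groth.Agent.WeakNorm

theorem exists_descend_affine {X Y : Scheme.{u}} [IsAffine X] (π : Y ⟶ X) [IsProper π] [Surjective π]
    [IsReduced Y] (hX : HTop.IsSeminormalRing Γ(X, ⊤)) (s : Γ(Y, ⊤))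
    (hs : (pullback.fst π π).appTop s = (pullback.snd π π).appTop s) :
    ∃ t : Γ(X, ⊤), π.appTop t = s := by
  let π' : Y ⟶ Spec Γ(X, ⊤) := π ≫ X.isoSpec.hom
  let l : pullback π' π' ⟶ pullback π π := pullback.lift (pullback.fst π' π') (pullback.snd π' π')
    ((cancel_mono X.isoSpec.hom).1 (by simpa [π'] using (pullback.condition (f := π') (g := π'))))
  have hs' : (pullback.fst π' π').appTop s = (pullback.snd π' π').appTop s := by
    have := congrArg l.appTop hs
    simp only [← CommRingCat.comp_apply, ← Scheme.Hom.comp_appTop] at this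
    simpa only [l, pullback.lift_fst, pullback.lift_snd] using this
  haveI : IsProper π' := inferInstance
  haveI : Surjective π' := inferInstance
  obtain ⟨t, ht⟩ := exists_descend_spec π' hX s hs'
  exact ⟨X.isoSpec.hom.appTop t, by
    rw [← CommRingCat.comp_apply, ← Scheme.Hom.comp_appTop]; exact ht⟩

variable {X Y : Scheme.{u}} (π : Y ⟶ X)

theorem app_injective_of_surjective [Surjective π] [IsReduced X] (V : X.Opens) :
    Function.Injective (π.app V) := by
  refine (injective_iff_map_eq_zero (π.app V).hom).mpr fun a (ha : π.app V a = 0) => ?_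
  rw [← basicOpen_eq_bot_iff]
  refine le_bot_iff.mp fun x hx => ?_
  obtain ⟨y, rfl⟩ := π.surjective x
  have : y ∈ π ⁻¹ᵁ X.basicOpen a := hx
  rw [Scheme.preimage_basicOpen, ha, Scheme.basicOpen_zero] at this
  exact this

theorem existsUnique_descend [IsProper π] [Surjective π] [IsReduced Y] (hX : HTop.IsSeminormal X)
    (s : Γ(Y, ⊤)) (hs : (pullback.fst π π).appTop s = (pullback.snd π π).appTop s) :
    ∃! t : Γ(X, ⊤), π.appTop t = s := by
  haveI := isReduced_of_isSeminormal hX
  let r := fun (V : X.Opens) => Y.presheaf.map (homOfLE (le_top : π ⁻¹ᵁ V ≤ ⊤)).op s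
  refine (existsUnique_congr fun a => ?_).mpr (existsUnique_of_local (⊤ : X.Opens)
    (fun V _ a => π.app V a = r V) (fun V W _ hW a ha => ?_)
    (fun V _ a b ha hb => app_injective_of_surjective π V (ha.trans hb.symm))
    (fun W hW hc a ha => ?_) (fun p _ => ?_))
  · show _ ↔ π.app ⊤ a = Y.presheaf.map (𝟙 _) s
    rw [Y.presheaf.map_id]; rfl
  · rw [← CommRingCat.comp_apply, Scheme.Hom.naturality, CommRingCat.comp_apply, ha]
    rw [← CommRingCat.comp_apply, ← Y.presheaf.map_comp]; rfl
  · refine Y.sheaf.eq_of_locally_eq' (fun i => π ⁻¹ᵁ W i) (π ⁻¹ᵁ ⊤)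
      (fun i => homOfLE (Scheme.Hom.preimage_mono π (hW i))) (fun y hy => ?_) _ _ fun i => ?_
    · obtain ⟨i, hi⟩ := Opens.mem_iSup.mp (hc (trivial : π y ∈ ⊤))
      exact Opens.mem_iSup.mpr ⟨i, hi⟩
    · show Y.presheaf.map _ (π.app ⊤ a) = Y.presheaf.map _ (r ⊤)
      have := ha i
      rw [← CommRingCat.comp_apply, Scheme.Hom.naturality, CommRingCat.comp_apply] at this
      refine this.trans ?_
      rw [← CommRingCat.comp_apply, ← Y.presheaf.map_comp]; rfl
  · obtain ⟨V, hV, hVU, hpV, hVsn⟩ := exists_affine_seminormal hX ⊤ (x := p) trivial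
    haveI : IsAffine V := hV
    let u : Γ((π ⁻¹ᵁ V).toScheme, ⊤) := (π ⁻¹ᵁ V).ι.appTop s
    let l : pullback (π ∣_ V) (π ∣_ V) ⟶ pullback π π :=
      pullback.lift (pullback.fst _ _ ≫ (π ⁻¹ᵁ V).ι) (pullback.snd _ _ ≫ (π ⁻¹ᵁ V).ι)
        (by simp only [Category.assoc, ← morphismRestrict_ι, pullback.condition_assoc])
    have hu : (pullback.fst (π ∣_ V) (π ∣_ V)).appTop u = (pullback.snd (π ∣_ V) (π ∣_ V)).appTop u := by
      have := congrArg l.appTop hs
      simp only [← CommRingCat.comp_apply, ← Scheme.Hom.comp_appTop, u] at this ⊢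
      simpa only [l, pullback.lift_fst, pullback.lift_snd] using this
    haveI : Surjective (π ∣_ V) := IsZariskiLocalAtTarget.restrict ‹_› V
    obtain ⟨t, ht⟩ := exists_descend_affine (π ∣_ V)
      (isSeminormalRing_of_ringEquiv V.topIso.commRingCatIsoToRingEquiv.symm hVsn) u hu
    refine ⟨V, le_top, hpV, V.topIso.hom t, ?_⟩
    apply (ConcreteCategory.bijective_of_isIso (π ⁻¹ᵁ V).topIso.inv).1
    refine Eq.trans ?_ (ht.trans ?_)
    · show (π ⁻¹ᵁ V).topIso.inv (π.app V (V.topIso.hom t)) = _
      rw [← CommRingCat.comp_apply, ← CommRingCat.comp_apply]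
      congr 2
      simp [morphismRestrict_appTop, Scheme.Hom.app_eq_appLE]
    · show (π ⁻¹ᵁ V).ι.appTop s = (π ⁻¹ᵁ V).topIso.inv (r V)
      rw [← CommRingCat.comp_apply]
      congr 2
      simp [← Functor.map_comp]

end Groth.Agent.WeakNormN
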