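import Groth.Agent.WeakNorm.SnNormal
import Groth.Agent.WeakNorm.AwnPerfect
import Groth.Prelude.Def_Pi1

/-!
Normal schemes are seminormal, and lift along seminormalization-type universal homeomorphisms.
-/

set_option autoImplicit false
set_option linter.style.haveILetI false
set_option backward.isDefEq.respectTransparency false
universe u

namespace Groth.Agent.WeakNormN

open AlgebraicGeometry CategoryTheory CategoryTheory.Limits TopologicalSpace
open Groth.Agent.WeakNorm

theorem isSeminormal_of_isNormal {X : Scheme.{u}} (hX : Pi1.IsNormalScheme X) :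
    HTop.IsSeminormal X := by
  haveI : ∀ x : X, IsDomain (X.presheaf.stalk x) := fun x => (hX x).1
  haveI : IsReduced X := isReduced_of_isReduced_stalk X
  intro p₀
  obtain ⟨W, hW, hpW, -⟩ := exists_isAffineOpen_mem_and_subset (U := (⊤ : X.Opens)) (x := p₀) trivial
  refine ⟨⟨W, hW⟩, hpW, ?_⟩
  intro x y hxy
  let U : X.Opens := W
  let r := fun (V : X.Opens) (hV : V ≤ U) => (X.presheaf.map (homOfLE hV).op).hom
  have hr : ∀ (V W : X.Opens) (hV : V ≤ U) (hW : W ≤ V) (z : Γ(X, U)),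
      X.presheaf.map (homOfLE hW).op (r V hV z) = r W (hW.trans hV) z := fun V W hV hW z => by
    rw [← CommRingCat.comp_apply, ← X.presheaf.map_comp]; rfl
  refine (existsUnique_congr fun a => ?_).mpr (existsUnique_of_local U
    (fun V hV a => r V hV x = a ^ 2 ∧ r V hV y = a ^ 3) (fun V W hV hW a ha => ?_)
    (fun V hV a b ha hb => eq_of_sq_eq_of_cube_eq (ha.1.symm.trans hb.1) (ha.2.symm.trans hb.2))
    (fun W hW hc a ha => ⟨?_, ?_⟩) (fun p hp => ?_))
  · simp [r, U]
  · exact ⟨by rw [← hr V W hV hW, ha.1, map_pow], by rw [← hr V W hV hW, ha.2, map_pow]⟩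
  · refine X.sheaf.eq_of_locally_eq' W U (fun i => homOfLE (hW i)) hc _ _ fun i => ?_
    show X.presheaf.map _ (r U le_rfl x) = X.presheaf.map _ (a ^ 2)
    rw [hr, (ha i).1, map_pow]
  · refine X.sheaf.eq_of_locally_eq' W U (fun i => homOfLE (hW i)) hc _ _ fun i => ?_
    show X.presheaf.map _ (r U le_rfl y) = X.presheaf.map _ (a ^ 3)
    rw [hr, (ha i).2, map_pow]
  · haveI := (hX p).2
    obtain ⟨a, ⟨ha, ha'⟩, -⟩ := isSeminormalRing_of_isIntegrallyClosed (X.presheaf.stalk p)
      (X.presheaf.germ U p hp x) (X.presheaf.germ U p hp y) (by rw [← map_pow, hxy, map_pow])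
    obtain ⟨V, hpV, s, rfl⟩ := X.presheaf.exists_germ_eq a
    rw [← map_pow] at ha ha'
    obtain ⟨V₁, hpV₁, i₁, j₁, e₁⟩ := X.presheaf.germ_eq p hp hpV _ _ ha
    obtain ⟨V₂, hpV₂, i₂, j₂, e₂⟩ := X.presheaf.germ_eq p hp hpV _ _ ha'
    refine ⟨V₁ ⊓ V₂, inf_le_left.trans (leOfHom i₁), ⟨hpV₁, hpV₂⟩,
      X.presheaf.map (homOfLE (inf_le_left.trans (leOfHom j₁))).op s, ?_, ?_⟩
    · have := congrArg (X.presheaf.map (homOfLE (inf_le_left : V₁ ⊓ V₂ ≤ V₁)).op) e₁
      simp only [← CommRingCat.comp_apply, ← X.presheaf.map_comp, map_pow] at this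
      exact this
    · have := congrArg (X.presheaf.map (homOfLE (inf_le_right : V₁ ⊓ V₂ ≤ V₂)).op) e₂
      simp only [← CommRingCat.comp_apply, ← X.presheaf.map_comp, map_pow] at this
      exact this

theorem exists_lift_of_isSeminormal {X Y Z : Scheme.{u}} (hZ : HTop.IsSeminormal Z) (π : Y ⟶ X)
    (hπ : FlatMor.IsUnivHomeo π) (hres : HTop.ResidueFieldsIso π) (f : Z ⟶ X) :
    ∃ g : Z ⟶ Y, g ≫ π = f := by
  obtain ⟨hi', hu', hs'⟩ := (isUnivHomeo_iff π).mp hπ
  haveI := hu'
  haveI := RedSepLib.isReduced_subscheme_nilradical (pullback π f)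
  let i := (pullback π f).nilradical.subschemeι
  have hi₀ : FlatMor.IsUnivHomeo i := by
    refine (isUnivHomeo_iff i).mpr ⟨inferInstance, inferInstance, ⟨Set.range_eq_univ.mp ?_⟩⟩
    rw [Scheme.IdealSheafData.range_subschemeι, Scheme.support_nilradical]
    rfl
  haveI := isIso_of_isSeminormal hZ (i ≫ pullback.snd π f)
    (isUnivHomeo_comp hi₀ (isUnivHomeo_of_isPullback (IsPullback.of_hasPullback π f).flip hπ))
    (residueFieldsIso_comp (residueFieldsIso_of_isClosedImmersion i)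
      (residueFieldsIso_pullback_snd π _ hres))
  refine ⟨inv (i ≫ pullback.snd π f) ≫ i ≫ pullback.fst π f, ?_⟩
  simp only [Category.assoc, pullback.condition]
  rw [IsIso.inv_comp_eq]
  simp

end Groth.Agent.WeakNormN
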