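import Groth.Agent.WeakNormN.Basic
import Groth.Agent.EtaPt.UnivHomeo
import Mathlib.RingTheory.TensorProduct.Basic
import Mathlib.AlgebraicGeometry.Morphisms.Proper

/-!
Descending functions along proper surjections onto seminormal schemes.
-/

set_option autoImplicit false
set_option linter.style.haveILetI false
set_option backward.isDefEq.respectTransparency false
universe u

namespace Groth.Agent.WeakNormN

open AlgebraicGeometry CategoryTheory CategoryTheory.Limits TensorProduct

theorem exists_algebraMap_eq_of_tmul_eq {K L : Type u} [Field K] [Field L] [Algebra K L] (a : L)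
    (h : a ⊗ₜ[K] (1 : L) = (1 : L) ⊗ₜ[K] a) : ∃ c : K, algebraMap K L c = a := by
  obtain ⟨f, hf⟩ : ∃ f : L →ₗ[K] K, f 1 = 1 := by
    obtain ⟨f, -, hf⟩ := LinearMap.exists_extend_of_notMem (0 : (⊥ : Submodule K L) →ₗ[K] K)
      (v := (1 : L)) (by simp) (1 : K)
    exact ⟨f, hf⟩
  refine ⟨f a, ?_⟩
  have := congrArg (TensorProduct.lift ((LinearMap.lsmul K L).comp f).flip) h
  simpa [TensorProduct.lift.tmul, hf, Algebra.smul_def] using this.symm

theorem fromSpecResidueField_appTop_apply (Y : Scheme.{u}) (y : Y) (b : Γ(Y, ⊤)) :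
    (Scheme.ΓSpecIso (Y.residueField y)).hom ((Y.fromSpecResidueField y).appTop b) =
      Y.Γevaluation y b := by
  have h2 : (Y.fromSpecResidueField y).appTop ≫ (Scheme.ΓSpecIso _).hom =
      Y.presheaf.germ ⊤ y trivial ≫ Y.residue y := by
    rw [Scheme.fromSpecResidueField, Scheme.Hom.comp_appTop, Scheme.fromSpecStalk_appTop, Category.assoc,
      Category.assoc, Scheme.ΓSpecIso_naturality]
    simp
  exact ConcreteCategory.congr_hom h2 b

variable {X Y : Scheme.{u}} (π : Y ⟶ X)

theorem exists_residueFieldMap_eq (s : Γ(Y, ⊤))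
    (hs : (pullback.fst π π).appTop s = (pullback.snd π π).appTop s) (y : Y) :
    ∃ c : X.residueField (π y), π.residueFieldMap y c = Y.Γevaluation y s := by
  letI : Algebra (X.residueField (π y)) (Y.residueField y) := (π.residueFieldMap y).hom.toAlgebra
  let T := (Y.residueField y) ⊗[X.residueField (π y)] (Y.residueField y)
  let j₁ : (Y.residueField y) →+* T := Algebra.TensorProduct.includeLeftRingHom
  let j₂ : (Y.residueField y) →+* T :=
    (Algebra.TensorProduct.includeRight : _ →ₐ[X.residueField (π y)] T).toRingHom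
  let i₁ : Y.residueField y ⟶ CommRingCat.of T := CommRingCat.ofHom j₁
  let i₂ : Y.residueField y ⟶ CommRingCat.of T := CommRingCat.ofHom j₂
  have hi : π.residueFieldMap y ≫ i₁ = π.residueFieldMap y ≫ i₂ := by
    ext c
    show j₁ (algebraMap (X.residueField (π y)) (Y.residueField y) c) = j₂ (algebraMap (X.residueField (π y)) (Y.residueField y) c)
    exact Algebra.TensorProduct.tmul_one_eq_one_tmul (A := Y.residueField y) (B := Y.residueField y) c
  have hcomm : (Spec.map i₁ ≫ Y.fromSpecResidueField y) ≫ π =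
      (Spec.map i₂ ≫ Y.fromSpecResidueField y) ≫ π := by
    simp only [Category.assoc, ← Scheme.Hom.SpecMap_residueFieldMap_fromSpecResidueField,
      ← Spec.map_comp_assoc, hi]
  let l := pullback.lift _ _ hcomm
  have key : (Spec.map i₁ ≫ Y.fromSpecResidueField y).appTop s =
      (Spec.map i₂ ≫ Y.fromSpecResidueField y).appTop s := by
    have := congrArg l.appTop hs
    simp only [← CommRingCat.comp_apply, ← Scheme.Hom.comp_appTop] at this
    simpa only [l, pullback.lift_fst, pullback.lift_snd] using this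
  have := congrArg (Scheme.ΓSpecIso (CommRingCat.of T)).hom key
  simp only [Scheme.Hom.comp_appTop, CommRingCat.comp_apply] at this
  have hn : ∀ (i : Y.residueField y ⟶ CommRingCat.of T) x,
      (Scheme.ΓSpecIso (CommRingCat.of T)).hom ((Spec.map i).appTop x) =
        i ((Scheme.ΓSpecIso (Y.residueField y)).hom x) := fun i x =>
    ConcreteCategory.congr_hom (Scheme.ΓSpecIso_naturality i) x
  rw [hn, hn, fromSpecResidueField_appTop_apply] at this
  exact exists_algebraMap_eq_of_tmul_eq _ this

theorem evaluation_eq_zero_iff (b : Γ(Y, ⊤))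
    (hb : (pullback.fst π π).appTop b = (pullback.snd π π).appTop b) {y y' : Y} (h : π y = π y') :
    Y.Γevaluation y b = 0 ↔ Y.Γevaluation y' b = 0 := by
  obtain ⟨z, rfl, rfl⟩ := Scheme.Pullback.exists_preimage_pullback (f := π) (g := π) y y' h
  have e := (Scheme.Γevaluation_naturality_apply (pullback.fst π π) z b).trans
    ((congrArg _ hb).trans (Scheme.Γevaluation_naturality_apply (pullback.snd π π) z b).symm)
  constructor <;> intro h0
  · refine ((pullback.snd π π).residueFieldMap z).hom.injective ?_
    rw [map_zero]; exact e.symm.trans (by rw [h0, map_zero])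
  · refine ((pullback.fst π π).residueFieldMap z).hom.injective ?_
    rw [map_zero]; exact e.trans (by rw [h0, map_zero])

set_option maxHeartbeats 1000000 in
theorem exists_descend_spec {R : CommRingCat.{u}} {Y : Scheme.{u}} (π : Y ⟶ Spec R) [IsProper π]
    [Surjective π] [IsReduced Y] (hR : HTop.IsSeminormalRing R) (s : Γ(Y, ⊤))
    (hs : (pullback.fst π π).appTop s = (pullback.snd π π).appTop s) :
    ∃ t : Γ(Spec R, ⊤), π.appTop t = s := by
  let φ : R →+* Γ(Y, ⊤) := ((Scheme.ΓSpecIso R).inv ≫ π.appTop).hom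
  haveI := Groth.Agent.WeakNorm.isReduced_of_isSeminormalRing hR
  letI : Algebra R Γ(Y, ⊤) := φ.toAlgebra
  let B : Subalgebra R Γ(Y, ⊤) := Algebra.adjoin R {s}
  have hint : φ.IsIntegral :=
    RingHom.IsIntegral.trans _ _ (RingHom.isIntegral_of_surjective _
      (ConcreteCategory.bijective_of_isIso (Scheme.ΓSpecIso R).inv).2)
      (isIntegral_appTop_of_universallyClosed π)
  haveI : Algebra.IsIntegral R Γ(Y, ⊤) := ⟨hint⟩
  -- sections in `B` agree on the fibre product and have values in the residue fields of the base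
  have hfix : ∀ b ∈ B, (pullback.fst π π).appTop b = (pullback.snd π π).appTop b := fun b hb => by
    induction hb using Algebra.adjoin_induction with
    | mem b hb => rw [Set.mem_singleton_iff.mp hb, hs]
    | algebraMap a =>
        show (pullback.fst π π).appTop (π.appTop _) = (pullback.snd π π).appTop (π.appTop _)
        rw [← CommRingCat.comp_apply, ← CommRingCat.comp_apply, ← Scheme.Hom.comp_appTop,
          ← Scheme.Hom.comp_appTop, pullback.condition]
    | add b c _ _ h1 h2 => rw [map_add, map_add, h1, h2]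
    | mul b c _ _ h1 h2 => rw [map_mul, map_mul, h1, h2]
  -- every prime of `B` is the kernel of evaluation at a point
  let g : Y ⟶ Spec (CommRingCat.of B) := Y.toSpecΓ ≫ Spec.map (CommRingCat.ofHom B.val.toRingHom)
  have hg : ∀ (y : Y) (b : B), b ∈ (g y).asIdeal ↔ Y.Γevaluation y b.1 = 0 := fun y b => by
    rw [Scheme.evaluation_eq_zero_iff_notMem_basicOpen Y y (show y ∈ (⊤ : Y.Opens) from trivial),
      ← Scheme.toSpecΓ_preimage_basicOpen]
    show b.1 ∈ (Y.toSpecΓ y).asIdeal ↔ _
    exact not_not.symm
  haveI : UniversallyClosed g := by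
    haveI : UniversallyClosed (g ≫ Spec.map (CommRingCat.ofHom (algebraMap R B))) := by
      have e : g ≫ Spec.map (CommRingCat.ofHom (algebraMap R B)) = π := by
        show (Y.toSpecΓ ≫ _) ≫ _ = π
        rw [Category.assoc, ← Spec.map_comp]
        show Y.toSpecΓ ≫ Spec.map ((Scheme.ΓSpecIso R).inv ≫ π.appTop) = π
        rw [Spec.map_comp, ← Scheme.toSpecΓ_naturality_assoc]
        simp
      rw [e]; infer_instance
    exact UniversallyClosed.of_comp_of_isSeparated g
      (Spec.map (CommRingCat.ofHom (algebraMap R B)))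
  have hsurj : ∀ q : PrimeSpectrum B, ∃ y : Y, g y = q := fun q => by
    by_contra hq
    push Not at hq
    obtain ⟨_, ⟨b, rfl⟩, hqb, hbs⟩ := PrimeSpectrum.isTopologicalBasis_basic_opens.exists_subset_of_mem_open
      (show q ∈ (Set.range g)ᶜ from by intro h; exact h.elim fun y hy => hq y hy) g.isClosedMap.isClosed_range.isOpen_compl
    have h0 : ∀ y : Y, Y.Γevaluation y b.1 = 0 := fun y => (hg y b).mp <| by
      by_contra hy
      exact hbs hy ⟨y, rfl⟩
    have hb0 : b.1 = 0 := by
      rw [← basicOpen_eq_bot_iff]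
      exact (Scheme.basicOpen_eq_bot_iff_forall_evaluation_eq_zero Y b.1).mpr fun y => h0 y
    exact hqb (by rw [show b = 0 from Subtype.ext hb0]; exact zero_mem _)
  have hcomap : ∀ y, PrimeSpectrum.comap (algebraMap R B) (g y) = π y := fun y => by
    refine PrimeSpectrum.ext (Ideal.ext fun a => ?_)
    show algebraMap R B a ∈ (g y).asIdeal ↔ a ∈ (π y).asIdeal
    rw [hg]
    show Y.Γevaluation y (π.appTop ((Scheme.ΓSpecIso R).inv a)) = 0 ↔ _
    rw [← Scheme.Γevaluation_naturality_apply π, map_eq_zero_iff _ (π.residueFieldMap y).hom.injective,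
      ← Groth.Agent.EtaPtLib.residueFieldIso_inv_algebraMap,
      map_eq_zero_iff _ (ConcreteCategory.bijective_of_isIso (Scheme.Spec.residueFieldIso R _).inv).1,
      Ideal.algebraMap_residueField_eq_zero]
  have hφ0 : Function.Injective (algebraMap R B) := by
    rw [injective_iff_map_eq_zero]
    intro a ha
    refine IsNilpotent.eq_zero (nilpotent_iff_mem_prime.mpr fun P hP => ?_)
    obtain ⟨y, hy⟩ := π.surjective (⟨P, hP⟩ : PrimeSpectrum R)
    have : a ∈ (PrimeSpectrum.comap (algebraMap R B) (g y)).asIdeal := by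
      show algebraMap R B a ∈ (g y).asIdeal
      rw [ha]; exact zero_mem _
    rw [hcomap, hy] at this
    exact this
  haveI : Algebra.IsIntegral R B := Algebra.IsIntegral.of_injective B.val Subtype.val_injective
  have hbij : Function.Bijective (PrimeSpectrum.comap (algebraMap R B)) := by
    refine ⟨fun q q' hqq' => ?_, fun p => ?_⟩
    · obtain ⟨y, rfl⟩ := hsurj q
      obtain ⟨y', rfl⟩ := hsurj q'
      rw [hcomap, hcomap] at hqq'
      refine PrimeSpectrum.ext (Ideal.ext fun b => ?_)
      rw [hg, hg]
      exact evaluation_eq_zero_iff π b.1 (hfix b.1 b.2) hqq'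
    · obtain ⟨y, hy⟩ := π.surjective p
      exact ⟨g y, (hcomap y).trans hy⟩
  have hres : ∀ Q : PrimeSpectrum B, Function.Bijective (Ideal.ResidueField.map
      (PrimeSpectrum.comap (algebraMap R B) Q).asIdeal Q.asIdeal (algebraMap R B) rfl) := fun Q => by
    refine ⟨RingHom.injective _, ?_⟩
    obtain ⟨y, rfl⟩ := hsurj Q
    let r := Ideal.ResidueField.map
      (PrimeSpectrum.comap (algebraMap R B) (g y)).asIdeal (g y).asIdeal (algebraMap R B) rfl
    have hd : ∀ d : B, algebraMap B (g y).asIdeal.ResidueField d ∈ r.fieldRange := fun d => by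
      obtain ⟨c, hc⟩ := exists_residueFieldMap_eq π d.1 (hfix d.1 d.2) y
      obtain ⟨z, rfl⟩ := (ConcreteCategory.bijective_of_isIso
        (Scheme.Spec.residueFieldIso R (π y)).inv).2 c
      obtain ⟨a, t, ht, rfl⟩ := IsFractionRing.div_surjective (R ⧸ (π y).asIdeal) z
      obtain ⟨a, rfl⟩ := Ideal.Quotient.mk_surjective a
      obtain ⟨t, rfl⟩ := Ideal.Quotient.mk_surjective t
      have ht' : t ∉ (π y).asIdeal := fun h =>
        nonZeroDivisors.ne_zero ht (Ideal.Quotient.eq_zero_iff_mem.mpr h)
      rw [← hcomap] at ht'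
      have h0 : algebraMap B (g y).asIdeal.ResidueField (algebraMap R B t) ≠ 0 := fun h =>
        ht' (show algebraMap R B t ∈ (g y).asIdeal from Ideal.algebraMap_residueField_eq_zero.mp h)
      refine ⟨algebraMap R _ a / algebraMap R _ t, ?_⟩
      rw [map_div₀]
      simp only [r, Ideal.ResidueField.map_algebraMap]
      rw [div_eq_iff h0, ← map_mul, ← sub_eq_zero, ← map_sub, Ideal.algebraMap_residueField_eq_zero,
        hg]
      show Y.Γevaluation y (φ a - d.1 * φ t) = 0
      have ev : ∀ a : R, π.residueFieldMap y ((Scheme.Spec.residueFieldIso R (π y)).inv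
          (algebraMap R (π y).asIdeal.ResidueField a)) = Y.Γevaluation y (φ a) := fun a =>
        (congrArg _ (Groth.Agent.EtaPtLib.residueFieldIso_inv_algebraMap R (π y) a)).trans
          (Scheme.Γevaluation_naturality_apply π y _)
      have ht0 : Y.Γevaluation y (φ t) ≠ 0 := fun h => h0 (Ideal.algebraMap_residueField_eq_zero.mpr
        ((hg y (algebraMap R B t)).mpr h))
      rw [map_sub, map_mul, ← hc, map_div₀ (Scheme.Spec.residueFieldIso R (π y)).inv.hom,
        map_div₀ (π.residueFieldMap y).hom]
      erw [ev, ev]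
      rw [div_mul_cancel₀ _ ht0, sub_self]
    intro z
    obtain ⟨x, w, -, rfl⟩ := IsFractionRing.div_surjective (B ⧸ (g y).asIdeal) z
    obtain ⟨x, rfl⟩ := Ideal.Quotient.mk_surjective x
    obtain ⟨w, rfl⟩ := Ideal.Quotient.mk_surjective w
    exact div_mem (hd x) (hd w)
  obtain ⟨hu, hr⟩ := Groth.Agent.EtaPtLib.isUnivHomeo_and_residueFieldsIso (algebraMap R B)
    (algebraMap_isIntegral_iff.mpr inferInstance) hbij hres
  haveI : _root_.IsReduced B := isReduced_of_injective B.val Subtype.val_injective
  obtain ⟨a, ha⟩ := (Groth.Agent.WeakNorm.bijective_of_seminormal hR hu hr).2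
    ⟨s, Algebra.subset_adjoin (Set.mem_singleton s)⟩
  exact ⟨(Scheme.ΓSpecIso R).inv a, congrArg Subtype.val ha⟩

end Groth.Agent.WeakNormN
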